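import Mathlib.RingTheory.Etale.StandardEtale
import Mathlib.RingTheory.AdjoinRoot
import Mathlib.RingTheory.LocalRing.ResidueField.Basic
import Mathlib.RingTheory.Localization.Away.Basic
import Mathlib.FieldTheory.PrimitiveElement
import Mathlib.RingTheory.Unramified.Field
import Groth.Agent.Lib.Hens.Local

/-!
# Monogenic finite étale algebras over local rings and products
-/

set_option autoImplicit false
universe u

open Polynomial IsLocalRing TensorProduct

namespace Groth.Agent.PiHens4

variable {A : Type u} [CommRing A]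

theorem separable_of_residue [IsLocalRing A] {f : A[X]} (hf : f.Monic)
    (h : (f.map (residue A)).Separable) : f.Separable := by
  obtain ⟨a, b, hab⟩ := h
  obtain ⟨a, rfl⟩ := map_surjective (residue A) residue_surjective a
  obtain ⟨b, rfl⟩ := map_surjective (residue A) residue_surjective b
  rw [derivative_map, ← Polynomial.map_mul, ← Polynomial.map_mul, ← Polynomial.map_add] at hab
  have hh : a * f + b * derivative f - 1 ∈ (maximalIdeal A).map (C : A →+* A[X]) := by
    rw [Ideal.mem_map_C_iff]
    intro k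
    rw [← residue_eq_zero_iff, ← coeff_map, Polynomial.map_sub, hab, Polynomial.map_one, sub_self, coeff_zero]
  haveI := hf.finite_adjoinRoot
  have hj : AdjoinRoot.mk f (a * f + b * derivative f - 1) ∈ Ring.jacobson (AdjoinRoot f) := by
    have h1 : AdjoinRoot.mk f (a * f + b * derivative f - 1) ∈
        (maximalIdeal A).map (algebraMap A (AdjoinRoot f)) := by
      have h2 := Ideal.mem_map_of_mem (AdjoinRoot.mk f) hh
      rw [Ideal.map_map] at h2
      exact h2
    rw [Ring.jacobson_eq_sInf_isMaximal, Ideal.mem_sInf]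
    intro M hM
    haveI : M.IsMaximal := hM
    have hc : (M.comap (algebraMap A (AdjoinRoot f))).IsMaximal :=
      Ideal.isMaximal_comap_of_isIntegral_of_isMaximal M
    exact Ideal.map_le_iff_le_comap.2 (eq_maximalIdeal hc).ge h1
  have hu : IsUnit (AdjoinRoot.mk f b * AdjoinRoot.mk f (derivative f)) := by
    have := Ideal.mem_jacobson_bot.1 (Ideal.jacobson_bot (R := AdjoinRoot f) ▸ hj) 1
    simpa using this
  obtain ⟨w, hw⟩ := (isUnit_of_mul_isUnit_right hu).exists_left_inv
  obtain ⟨w, rfl⟩ := AdjoinRoot.mk_surjective w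
  rw [← map_mul, ← map_one (AdjoinRoot.mk f), AdjoinRoot.mk_eq_mk] at hw
  obtain ⟨v, hv⟩ := hw
  exact ⟨-v, w, by linear_combination hv⟩

theorem etale_adjoinRoot {f : A[X]} (hf : f.Monic) (h : f.Separable) : Algebra.Etale A (AdjoinRoot f) := by
  obtain ⟨a, b, hab⟩ := h
  let P : StandardEtalePair A :=
    { f := f, monic_f := hf, g := 1, cond := ⟨b, a, 1, by rw [pow_one]; linear_combination hab⟩ }
  let e := P.equivAwayAdjoinRoot
  have h1 : Submonoid.powers (AdjoinRoot.mk P.f P.g) ≤ IsUnit.submonoid (AdjoinRoot f) := by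
    rintro _ ⟨n, rfl⟩
    exact (show IsUnit (AdjoinRoot.mk f (1 : A[X])) by rw [map_one]; exact isUnit_one).pow n
  exact Algebra.Etale.of_equiv (e.trans ((IsLocalization.atUnits (AdjoinRoot f)
    (Submonoid.powers (AdjoinRoot.mk P.f P.g)) h1).restrictScalars A).symm)

/-- The data of a monogenic cover with a point of the special fibre. -/
theorem exists_monogenic (A : Type u) [CommRing A] [HenselianLocalRing A] (B : Type u) [CommRing B]
    [Algebra (ResidueField A) B] [Module.Finite (ResidueField A) B]
    [Algebra.FormallyUnramified (ResidueField A) B] [Nontrivial B] :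
    ∃ (f : A[X]) (_ : f.Monic) (_ : f.Separable) (_ : HenselianLocalRing (AdjoinRoot f))
      (ψ : B →+* ResidueField (AdjoinRoot f)),
      0 < f.natDegree ∧ f.natDegree ≤ Module.finrank (ResidueField A) B ∧
      ψ.comp ((algebraMap (ResidueField A) B).comp (residue A)) =
        (residue (AdjoinRoot f)).comp (algebraMap A (AdjoinRoot f)) := by
  obtain ⟨m, hm⟩ := Ideal.exists_maximal B
  let L := B ⧸ m
  letI : Field L := Ideal.Quotient.field m
  haveI : Module.Finite (ResidueField A) L := Module.Finite.of_surjective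
    (Ideal.Quotient.mkₐ (ResidueField A) m).toLinearMap Ideal.Quotient.mk_surjective
  haveI : Algebra.FormallyUnramified (ResidueField A) L :=
    Algebra.FormallyUnramified.of_surjective (Ideal.Quotient.mkₐ (ResidueField A) m) Ideal.Quotient.mk_surjective
  haveI : Algebra.IsSeparable (ResidueField A) L := Algebra.FormallyUnramified.isSeparable _ _
  obtain ⟨α, hα⟩ := Field.exists_primitive_element (ResidueField A) L
  have hint : IsIntegral (ResidueField A) α := Algebra.IsIntegral.isIntegral α
  set g := minpoly (ResidueField A) α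
  have hlift : g ∈ lifts (residue A) := by
    obtain ⟨q, hq⟩ := map_surjective _ residue_surjective g
    exact ⟨q, hq⟩
  obtain ⟨f, hfg, hdeg, hf⟩ := lifts_and_natDegree_eq_and_monic hlift (minpoly.monic hint)
  have hsep : f.Separable := separable_of_residue hf (hfg ▸ Algebra.IsSeparable.isSeparable (ResidueField A) α)
  haveI := hf.finite_adjoinRoot
  let φ : AdjoinRoot f →+* L := AdjoinRoot.lift ((algebraMap (ResidueField A) L).comp (residue A)) α (by
    rw [← eval₂_map, hfg, ← aeval_def, minpoly.aeval])
  have hφmk : ∀ q : A[X], φ (AdjoinRoot.mk f q) = aeval α (q.map (residue A)) := fun q => by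
    show AdjoinRoot.lift _ α _ (AdjoinRoot.mk f q) = _
    rw [AdjoinRoot.lift_mk, aeval_def, eval₂_map]
  have hφ : Function.Surjective φ := fun y => by
    have htop : Algebra.adjoin (ResidueField A) {α} = ⊤ := by
      rw [← IntermediateField.adjoin_simple_toSubalgebra_of_isAlgebraic hint.isAlgebraic, hα, IntermediateField.top_toSubalgebra]
    obtain ⟨q, rfl⟩ : ∃ q, aeval α q = y := by
      have : y ∈ Algebra.adjoin (ResidueField A) {α} := htop ▸ Algebra.mem_top
      rwa [Algebra.adjoin_singleton_eq_range_aeval] at this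
    obtain ⟨q, rfl⟩ := map_surjective _ residue_surjective q
    exact ⟨AdjoinRoot.mk f q, hφmk q⟩
  have hker : RingHom.ker φ ≤ (maximalIdeal A).map (algebraMap A (AdjoinRoot f)) := by
    intro x hx
    obtain ⟨q, rfl⟩ := AdjoinRoot.mk_surjective x
    rw [RingHom.mem_ker, hφmk] at hx
    obtain ⟨r, hr⟩ := minpoly.dvd (ResidueField A) α hx
    obtain ⟨r, rfl⟩ := map_surjective _ residue_surjective r
    have hmem : q - f * r ∈ (maximalIdeal A).map (C : A →+* A[X]) := by
      rw [Ideal.mem_map_C_iff]
      intro k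
      rw [← residue_eq_zero_iff, ← coeff_map, Polynomial.map_sub, Polynomial.map_mul, hfg, hr, sub_self, coeff_zero]
    have h2 := Ideal.mem_map_of_mem (AdjoinRoot.mk f) hmem
    rw [Ideal.map_map, map_sub, map_mul, AdjoinRoot.mk_self, zero_mul, sub_zero] at h2
    exact h2
  haveI hkmax : (RingHom.ker φ).IsMaximal := RingHom.ker_isMaximal_of_surjective φ hφ
  haveI : IsLocalRing (AdjoinRoot f) := IsLocalRing.of_unique_max_ideal ⟨RingHom.ker φ, hkmax, fun M hM => by
    haveI : M.IsMaximal := hM
    have hc : (M.comap (algebraMap A (AdjoinRoot f))).IsMaximal :=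
      Ideal.isMaximal_comap_of_isIntegral_of_isMaximal M
    exact (hkmax.eq_of_le hM.ne_top (hker.trans (Ideal.map_le_iff_le_comap.2 (eq_maximalIdeal hc).ge))).symm⟩
  have hhens : HenselianLocalRing (AdjoinRoot f) := Hens.henselianLocalRing_of_isIntegral A (AdjoinRoot f)
  have hk : RingHom.ker φ = maximalIdeal (AdjoinRoot f) := eq_maximalIdeal hkmax
  let ρ : ResidueField (AdjoinRoot f) →+* L :=
    Ideal.Quotient.lift _ φ fun x hx => RingHom.mem_ker.1 (hk.symm ▸ hx)
  have hρres : ∀ x, ρ (residue _ x) = φ x := fun _ => rfl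
  have hρ : Function.Bijective ρ := ⟨ρ.injective, fun y => by
    obtain ⟨x, rfl⟩ := hφ y
    exact ⟨residue _ x, rfl⟩⟩
  refine ⟨f, hf, hsep, hhens,
    ((RingEquiv.ofBijective ρ hρ).symm : L →+* ResidueField (AdjoinRoot f)).comp (Ideal.Quotient.mk m), ?_, ?_, ?_⟩
  · rw [hdeg]; exact minpoly.natDegree_pos hint
  · rw [hdeg, (Field.primitive_element_iff_minpoly_natDegree_eq (ResidueField A) α).1 hα]
    exact LinearMap.finrank_le_finrank_of_surjective
      (f := (Ideal.Quotient.mkₐ (ResidueField A) m).toLinearMap) Ideal.Quotient.mk_surjective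
  · refine RingHom.ext fun a => hρ.1 ?_
    show ρ ((RingEquiv.ofBijective ρ hρ).symm _) = φ (algebraMap A (AdjoinRoot f) a)
    refine ((RingEquiv.ofBijective ρ hρ).apply_symm_apply _).trans ?_
    simp [φ]
    rfl

section Pi

variable {ι : Type u} {R : ι → Type u} [∀ i, CommRing (R i)]

/-- A finite free algebra over a product is the product of its fibres. -/
theorem bijective_pi_baseChange (C : Type u) [CommRing C] [Algebra (∀ i, R i) C] [Module.Finite (∀ i, R i) C]
    [Module.Free (∀ i, R i) C] :
    letI := fun i => (Pi.evalRingHom R i).toAlgebra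
    Function.Bijective (Pi.ringHom fun i =>
      (Algebra.TensorProduct.includeRight : C →ₐ[∀ i, R i] R i ⊗[∀ i, R i] C).toRingHom) := by
  letI := fun i => (Pi.evalRingHom R i).toAlgebra
  let b := Module.Free.chooseBasis (∀ i, R i) C
  have key : ∀ (z : C) i j, (Algebra.TensorProduct.basis (R i) b).repr (1 ⊗ₜ z) j = b.repr z j i := fun z i j => by
    simp [Algebra.TensorProduct.basis_repr_tmul]
    rfl
  refine ⟨fun z w h => b.repr.injective (Finsupp.ext fun j => funext fun i => ?_), fun y => ?_⟩
  · rw [← key z i j, ← key w i j]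
    exact congrArg (fun t => (Algebra.TensorProduct.basis (R i) b).repr t j) (congrFun h i)
  · refine ⟨b.equivFun.symm fun j i => (Algebra.TensorProduct.basis (R i) b).repr (y i) j, funext fun i => ?_⟩
    refine (Algebra.TensorProduct.basis (R i) b).repr.injective (Finsupp.ext fun j => ?_)
    show (Algebra.TensorProduct.basis (R i) b).repr (1 ⊗ₜ _) j = _
    rw [key, ← Module.Basis.equivFun_apply, LinearEquiv.apply_symm_apply]

variable (d : ℕ) (f : ∀ i, (R i)[X]) (hf : ∀ i, (f i).Monic) (hd : ∀ i, (f i).natDegree = d)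

/-- The polynomial over the product with the given components. -/
noncomputable def piPoly : (∀ i, R i)[X] :=
  X ^ d + ∑ k ∈ Finset.range d, C (fun i => (f i).coeff k) * X ^ k

include hf hd in
theorem map_piPoly (i : ι) : (piPoly d f).map (Pi.evalRingHom R i) = f i := by
  conv_rhs => rw [(hf i).as_sum, hd i]
  simp [piPoly, Polynomial.map_sum]

theorem monic_piPoly : (piPoly d f).Monic :=
  monic_X_pow_add (by
    rw [← Fin.sum_univ_eq_sum_range (fun k => C (fun i => (f i).coeff k) * X ^ k)]
    exact degree_sum_fin_lt _)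

/-- Evaluation of the adjoined root at a component. -/
noncomputable def evRoot (i : ι) : AdjoinRoot (piPoly d f) →+* AdjoinRoot (f i) :=
  AdjoinRoot.lift ((algebraMap (R i) (AdjoinRoot (f i))).comp (Pi.evalRingHom R i)) (AdjoinRoot.root (f i)) (by
    rw [← eval₂_map, map_piPoly d f hf hd i]
    exact AdjoinRoot.eval₂_root _)

theorem evRoot_algebraMap (i : ι) (r : ∀ i, R i) :
    evRoot d f hf hd i (algebraMap _ _ r) = algebraMap (R i) (AdjoinRoot (f i)) (r i) :=
  AdjoinRoot.lift_of _

theorem evRoot_mk (i : ι) (q : (∀ i, R i)[X]) :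
    evRoot d f hf hd i (AdjoinRoot.mk _ q) = AdjoinRoot.mk (f i) (q.map (Pi.evalRingHom R i)) := by
  rw [evRoot, AdjoinRoot.lift_mk, ← eval₂_map, ← AdjoinRoot.aeval_eq, aeval_def]

theorem bijective_evRoot : Function.Bijective (Pi.ringHom (evRoot d f hf hd)) := by
  refine ⟨(injective_iff_map_eq_zero _).2 fun z hz => ?_, fun y => ?_⟩
  · obtain ⟨q, rfl⟩ := AdjoinRoot.mk_surjective z
    rw [AdjoinRoot.mk_eq_zero, ← modByMonic_eq_zero_iff_dvd (monic_piPoly d f)]
    refine Polynomial.ext fun k => funext fun i => ?_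
    have h := congrFun hz i
    change evRoot d f hf hd i (AdjoinRoot.mk _ q) = 0 at h
    rw [evRoot_mk, AdjoinRoot.mk_eq_zero, ← modByMonic_eq_zero_iff_dvd (hf i), ← map_piPoly d f hf hd i,
      ← map_modByMonic _ (monic_piPoly d f)] at h
    exact (coeff_map (Pi.evalRingHom R i) k).symm.trans (congrArg (fun p => p.coeff k) h)
  · choose q hq using fun i => AdjoinRoot.mk_surjective (g := f i) (y i)
    refine ⟨AdjoinRoot.mk _ (∑ k ∈ Finset.range (d + 1), C (fun i => (q i %ₘ f i).coeff k) * X ^ k), funext fun i => ?_⟩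
    refine Eq.trans (evRoot_mk d f hf hd i _) ?_
    rw [← hq i, AdjoinRoot.mk_eq_mk, Polynomial.map_sum]
    have hlt : (q i %ₘ f i).natDegree < d + 1 := by
      have := natDegree_modByMonic_le (q i) (hf i)
      rw [hd] at this
      omega
    have e : ∑ k ∈ Finset.range (d + 1), Polynomial.map (Pi.evalRingHom R i) (C (fun i => (q i %ₘ f i).coeff k) * X ^ k) =
        q i %ₘ f i := by
      conv_rhs => rw [as_sum_range' _ _ hlt]
      refine Finset.sum_congr rfl fun k _ => ?_
      simp [C_mul_X_pow_eq_monomial]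
    rw [e, modByMonic_eq_sub_mul_div]
    exact ⟨-(q i /ₘ f i), by ring⟩

include hf hd in
theorem separable_piPoly (hs : ∀ i, (f i).Separable) : (piPoly d f).Separable := by
  have hu : IsUnit (AdjoinRoot.mk (piPoly d f) (derivative (piPoly d f))) := by
    choose a b hab using hs
    obtain ⟨w, hw⟩ := (bijective_evRoot d f hf hd).2 fun i => AdjoinRoot.mk (f i) (b i)
    refine IsUnit.of_mul_eq_one w ((bijective_evRoot d f hf hd).1 (funext fun i => ?_))
    show evRoot d f hf hd i (_ * w) = evRoot d f hf hd i 1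
    rw [map_mul, map_one, evRoot_mk, ← derivative_map, map_piPoly d f hf hd i,
      show evRoot d f hf hd i w = _ from congrFun hw i, ← map_mul, ← map_one (AdjoinRoot.mk (f i)), AdjoinRoot.mk_eq_mk]
    exact ⟨-(a i), by linear_combination hab i⟩
  obtain ⟨w, hw⟩ := hu.exists_left_inv
  obtain ⟨w, rfl⟩ := AdjoinRoot.mk_surjective w
  rw [← map_mul, ← map_one (AdjoinRoot.mk (piPoly d f)), AdjoinRoot.mk_eq_mk] at hw
  obtain ⟨v, hv⟩ := hw
  exact ⟨-v, w, by linear_combination hv⟩

include hf hd in
theorem injective_algebraMap (hpos : ∀ i, 0 < (f i).natDegree) :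
    Function.Injective (algebraMap (∀ i, R i) (AdjoinRoot (piPoly d f))) := fun r s h => funext fun i => by
  have h2 := congrArg (evRoot d f hf hd i) h
  rw [evRoot_algebraMap, evRoot_algebraMap] at h2
  rw [AdjoinRoot.algebraMap_eq, AdjoinRoot.of, RingHom.comp_apply, RingHom.comp_apply, AdjoinRoot.mk_eq_mk,
    ← C_sub] at h2
  by_contra hne
  have hne' : (C (r i - s i) : (R i)[X]) ≠ 0 := fun h0 => hne (sub_eq_zero.1 (C_eq_zero.1 h0))
  have hlt := (hf i).not_dvd_of_natDegree_lt hne' (by rw [natDegree_C]; exact hpos i)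
  exact hlt h2

end Pi

/-- Restriction of a product to a subtype is a localization. -/
theorem away_restrict {ι : Type u} (R : ι → Type u) [∀ i, CommRing (R i)] (p : ι → Prop) [DecidablePred p] :
    letI := (Pi.ringHom fun j : {i // p i} => Pi.evalRingHom R j.1).toAlgebra
    IsLocalization.Away (fun i => if p i then (1 : R i) else 0) (∀ j : {i // p i}, R j.1) := by
  letI := (Pi.ringHom fun j : {i // p i} => Pi.evalRingHom R j.1).toAlgebra
  have hap : ∀ (r : ∀ i, R i) (j : {i // p i}), algebraMap _ (∀ j : {i // p i}, R j.1) r j = r j.1 := fun _ _ => rfl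
  refine IsLocalization.away_of_isIdempotentElem ?_ ?_ ?_
  · exact funext fun i => by by_cases hi : p i <;> simp [hi]
  · refine le_antisymm (fun r hr => ?_) ?_
    · refine Ideal.mem_span_singleton.2 ⟨r, funext fun i => ?_⟩
      by_cases hi : p i
      · have := congrFun (RingHom.mem_ker.1 hr) ⟨i, hi⟩
        rw [hap] at this
        simpa [hi] using this
      · simp [hi]
    · rw [Ideal.span_le, Set.singleton_subset_iff, SetLike.mem_coe, RingHom.mem_ker]
      refine funext fun j => ?_
      rw [hap]
      simp [j.2]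
  · exact fun y => ⟨fun i => if h : p i then y ⟨i, h⟩ else 0, funext fun j => by rw [hap]; simp [j.2]⟩

end Groth.Agent.PiHens4
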