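import Groth.Agent.Lib.PiHens4.Alg
import Groth.Agent.Lib.PiHom27.Main
import Groth.Agent.S17862
import Mathlib.AlgebraicGeometry.Pullbacks

/-!
# One piece of the cover of a product
-/

set_option autoImplicit false
set_option backward.isDefEq.respectTransparency.types false
set_option linter.style.haveILetI false
universe u

open CategoryTheory CategoryTheory.Limits AlgebraicGeometry TensorProduct Polynomial AlgSp

namespace Groth.Agent.PiHens4

variable {S : Scheme.{u}}

/-- The spectrum of an algebra as a scheme over the base. -/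
noncomputable abbrev ptO {A B : Type u} [CommRing A] [CommRing B] (k : Spec (CommRingCat.of A) ⟶ S) (φ : A →+* B) : Over S :=
  Over.mk (Spec.map (CommRingCat.ofHom φ) ≫ k)

/-- The map of an algebra to its base. -/
noncomputable abbrev strO {A B : Type u} [CommRing A] [CommRing B] (k : Spec (CommRingCat.of A) ⟶ S) (φ : A →+* B) :
    ptO k φ ⟶ Over.mk k :=
  Over.homMk (Spec.map (CommRingCat.ofHom φ)) rfl

/-- A map of algebras as a map over the base. -/
noncomputable def homO {A B C : Type u} [CommRing A] [CommRing B] [CommRing C] (k : Spec (CommRingCat.of A) ⟶ S)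
    (φ : A →+* B) (ψ : A →+* C) (χ : B →+* C) (h : χ.comp φ = ψ) : ptO k ψ ⟶ ptO k φ :=
  Over.homMk (Spec.map (CommRingCat.ofHom χ)) (by
    show Spec.map (CommRingCat.ofHom χ) ≫ Spec.map (CommRingCat.ofHom φ) ≫ k = Spec.map (CommRingCat.ofHom ψ) ≫ k
    rw [← Spec.map_comp_assoc, ← CommRingCat.ofHom_comp, h])

theorem specMap_comp {A B C : Type u} [CommRing A] [CommRing B] [CommRing C] (φ : A →+* B) (ψ : B →+* C) :
    Spec.map (CommRingCat.ofHom ψ) ≫ Spec.map (CommRingCat.ofHom φ) = Spec.map (CommRingCat.ofHom (ψ.comp φ)) := by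
  rw [← Spec.map_comp, ← CommRingCat.ofHom_comp]

variable [IsAffine S] (X : AlgSp.Space S) (hXc : IsQuasiCompactSp X.obj) (hXs : IsQuasiSeparatedSp X.obj)
  {U : Over S} [IsAffine U.left] (p : (yon S).obj U ⟶ X.obj)

include hXc hXs in
theorem exists_piece {ι : Type u} (R : ι → Type u) [∀ i, CommRing (R i)] (k : Spec (CommRingCat.of (∀ i, R i)) ⟶ S)
    (x : ∀ i, (yon S).obj (ptO k (Pi.evalRingHom R i)) ⟶ X.obj) (d : ℕ) (f : ∀ i, (R i)[X])
    (hf : ∀ i, (f i).Monic) (hd : ∀ i, (f i).natDegree = d)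
    (c : ∀ i, ptO k ((algebraMap (R i) (AdjoinRoot (f i))).comp (Pi.evalRingHom R i)) ⟶ U)
    (hc : ∀ i, (yon S).map (c i) ≫ p = (yon S).map (homO k (Pi.evalRingHom R i)
      ((algebraMap (R i) (AdjoinRoot (f i))).comp (Pi.evalRingHom R i)) (algebraMap (R i) (AdjoinRoot (f i))) rfl) ≫ x i) :
    ∃ l : (yon S).obj (ptO k (algebraMap _ (AdjoinRoot (piPoly d f)))) ⟶ X.obj,
      (∀ i, (yon S).map (homO k (algebraMap _ (AdjoinRoot (piPoly d f)))
        ((algebraMap (R i) (AdjoinRoot (f i))).comp (Pi.evalRingHom R i)) (evRoot d f hf hd i)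
        (RingHom.ext fun r => evRoot_algebraMap d f hf hd i r)) ≫ l =
          (yon S).map (homO k (Pi.evalRingHom R i)
            ((algebraMap (R i) (AdjoinRoot (f i))).comp (Pi.evalRingHom R i)) (algebraMap (R i) (AdjoinRoot (f i))) rfl) ≫ x i) ∧
      ∀ (V : Over S) (a b : V ⟶ ptO k (algebraMap _ (AdjoinRoot (piPoly d f)))),
        a ≫ strO k _ = b ≫ strO k _ → (yon S).map a ≫ l = (yon S).map b ≫ l := by
  let D := AdjoinRoot (piPoly d f)
  let φD : (∀ i, R i) →+* D := algebraMap _ D
  let ev := evRoot d f hf hd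
  let e : D ≃+* ∀ i, AdjoinRoot (f i) := RingEquiv.ofBijective _ (bijective_evRoot d f hf hd)
  obtain ⟨g, hg⟩ := PiHom27.pointsPi_surjective_of_qcqs U.left (fun i => CommRingCat.of (AdjoinRoot (f i)))
    fun i => (c i).left
  let cd : Spec (CommRingCat.of D) ⟶ U.left := Spec.map (CommRingCat.ofHom e.symm.toRingHom) ≫ g
  have hcd : ∀ i, Spec.map (CommRingCat.ofHom (ev i)) ≫ cd = (c i).left := fun i => by
    refine Eq.trans ?_ (congrFun hg i)
    simp only [cd, AlgebraicGeometry.pointsPi]
    rw [← Category.assoc, specMap_comp]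
    congr 3
    refine RingHom.ext fun z => ?_
    exact congrFun (e.apply_symm_apply z) i
  have hw : cd ≫ U.hom = Spec.map (CommRingCat.ofHom φD) ≫ k := by
    have h2 : g ≫ U.hom = Spec.map (CommRingCat.ofHom e.toRingHom) ≫ Spec.map (CommRingCat.ofHom φD) ≫ k := by
      apply AlgebraicGeometry.pointsPi_injective (R := fun i => CommRingCat.of (AdjoinRoot (f i)))
      funext i
      have h1 := congrFun hg i
      simp only [AlgebraicGeometry.pointsPi] at h1 ⊢
      rw [← Category.assoc, h1, Over.w, ← Category.assoc, ← Category.assoc, specMap_comp, specMap_comp]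
      show Spec.map _ ≫ k = _
      congr 3
      exact RingHom.ext fun r => (evRoot_algebraMap d f hf hd i r).symm
    simp only [cd, Category.assoc, h2]
    rw [← Category.assoc, specMap_comp, show e.symm.toRingHom.comp e.toRingHom = RingHom.id D from
      RingHom.ext e.symm_apply_apply, CommRingCat.ofHom_id, Spec.map_id, Category.id_comp]
  let cD : ptO k φD ⟶ U := Over.homMk cd hw
  refine ⟨(yon S).map cD ≫ p, fun i => ?_, fun V a b hab => ?_⟩
  · rw [← Functor.map_comp_assoc, ← hc i]
    congr 2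
    exact Over.OverMorphism.ext (hcd i)
  -- the equaliser
  haveI := (monic_piPoly d f).finite_adjoinRoot
  haveI := (monic_piPoly d f).free_adjoinRoot
  let E := D ⊗[∀ i, R i] D
  let φE : (∀ i, R i) →+* E := algebraMap _ E
  let inl : D →+* E := (Algebra.TensorProduct.includeLeft : D →ₐ[∀ i, R i] E).toRingHom
  let inr : D →+* E := (Algebra.TensorProduct.includeRight : D →ₐ[∀ i, R i] E).toRingHom
  have hl : inl.comp φD = φE := (Algebra.TensorProduct.includeLeft : D →ₐ[∀ i, R i] E).comp_algebraMap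
  have hr : inr.comp φD = φE := (Algebra.TensorProduct.includeRight : D →ₐ[∀ i, R i] E).comp_algebraMap
  let α := homO k φD φE inl hl
  let β := homO k φD φE inr hr
  suffices key : (yon S).map α ≫ (yon S).map cD ≫ p = (yon S).map β ≫ (yon S).map cD ≫ p by
    have hab' : a.left ≫ Spec.map (CommRingCat.ofHom φD) = b.left ≫ Spec.map (CommRingCat.ofHom φD) :=
      congrArg CommaMorphism.left hab
    let m : V.left ⟶ Spec (CommRingCat.of E) :=
      pullback.lift a.left b.left hab' ≫ (pullbackSpecIso (∀ i, R i) D D).hom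
    have hm1 : m ≫ Spec.map (CommRingCat.ofHom inl) = a.left := by
      simp only [m, Category.assoc, inl]
      exact (congrArg (pullback.lift a.left b.left hab' ≫ ·) (pullbackSpecIso_hom_fst _ _ _)).trans
        (pullback.lift_fst _ _ _)
    have hm2 : m ≫ Spec.map (CommRingCat.ofHom inr) = b.left := by
      simp only [m, Category.assoc, inr]
      exact (congrArg (pullback.lift a.left b.left hab' ≫ ·) (pullbackSpecIso_hom_snd _ _ _)).trans
        (pullback.lift_snd _ _ _)
    let mO : V ⟶ ptO k φE := Over.homMk m (by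
      show m ≫ Spec.map (CommRingCat.ofHom φE) ≫ k = V.hom
      rw [← Category.assoc, ← hl, ← specMap_comp, ← Category.assoc, hm1, Category.assoc]
      exact Over.w a)
    have ha : mO ≫ α = a := Over.OverMorphism.ext hm1
    have hb : mO ≫ β = b := Over.OverMorphism.ext hm2
    rw [← ha, ← hb, Functor.map_comp, Functor.map_comp, Category.assoc, Category.assoc, key]
  letI := fun i => (Pi.evalRingHom R i).toAlgebra
  let C : ι → CommRingCat.{u} := fun i => CommRingCat.of (R i ⊗[∀ i, R i] E)
  let Φ : E ≃+* ∀ i, C i := RingEquiv.ofBijective _ (bijective_pi_baseChange (R := R) E)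
  let h' : Spec (CommRingCat.of (∀ i, C i)) ⟶ S := Spec.map (CommRingCat.ofHom Φ.toRingHom) ≫ (ptO k φE).hom
  let ε : Over.mk h' ⟶ ptO k φE := Over.homMk (Spec.map (CommRingCat.ofHom Φ.toRingHom)) rfl
  let ε' : ptO k φE ⟶ Over.mk h' := Over.homMk (Spec.map (CommRingCat.ofHom Φ.symm.toRingHom)) (by
    show Spec.map _ ≫ Spec.map _ ≫ (ptO k φE).hom = _
    rw [← Category.assoc, specMap_comp, show Φ.symm.toRingHom.comp Φ.toRingHom = RingHom.id E from
      RingHom.ext Φ.symm_apply_apply, CommRingCat.ofHom_id, Spec.map_id, Category.id_comp])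
  have hεε : ε' ≫ ε = 𝟙 _ := Over.OverMorphism.ext (by
    show Spec.map _ ≫ Spec.map _ = _
    rw [specMap_comp, show Φ.symm.toRingHom.comp Φ.toRingHom = RingHom.id E from
      RingHom.ext Φ.symm_apply_apply, CommRingCat.ofHom_id, Spec.map_id]
    rfl)
  suffices key' : (yon S).map ε ≫ (yon S).map α ≫ (yon S).map cD ≫ p =
      (yon S).map ε ≫ (yon S).map β ≫ (yon S).map cD ≫ p by
    have := congrArg ((yon S).map ε' ≫ ·) key'
    simp only [← Category.assoc, ← Functor.map_comp, hεε] at this
    simpa using this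
  refine congrArg InducedCategory.Hom.hom ((S17862.result S X hXc hXs C h')
    (a₁ := InducedCategory.homMk ((yon S).map ε ≫ (yon S).map α ≫ (yon S).map cD ≫ p))
    (a₂ := InducedCategory.homMk ((yon S).map ε ≫ (yon S).map β ≫ (yon S).map cD ≫ p)) (funext fun i => ?_))
  refine InducedCategory.Hom.ext ?_
  let o : Over.mk (Spec.map (CommRingCat.ofHom (Pi.evalRingHom (fun j => (C j : Type u)) i)) ≫ h') ⟶ Over.mk h' :=
    Over.homMk (Spec.map (CommRingCat.ofHom (Pi.evalRingHom (fun j => (C j : Type u)) i))) rfl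
  let q : E →+* C i := (Algebra.TensorProduct.includeRight : E →ₐ[∀ i, R i] R i ⊗[∀ i, R i] E).toRingHom
  let ρ : R i →+* C i := algebraMap (R i) (R i ⊗[∀ i, R i] E)
  have hq : q.comp φE = ρ.comp (Pi.evalRingHom R i) := RingHom.ext fun r =>
    ((Algebra.TensorProduct.includeRight : E →ₐ[∀ i, R i] R i ⊗[∀ i, R i] E).commutes r).trans
      (IsScalarTower.algebraMap_apply (∀ i, R i) (R i) (R i ⊗[∀ i, R i] E) r)
  show (yon S).map o ≫ (yon S).map ε ≫ (yon S).map α ≫ (yon S).map cD ≫ p =
    (yon S).map o ≫ (yon S).map ε ≫ (yon S).map β ≫ (yon S).map cD ≫ p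
  -- any point over the component factors through the component
  have fac : ∀ (inc : D →+* E) (hinc : inc.comp φD = φE) (w : ptO k (ρ.comp (Pi.evalRingHom R i)) ⟶ ptO k φE),
      w.left = Spec.map (CommRingCat.ofHom q) →
      (yon S).map w ≫ (yon S).map (homO k φD φE inc hinc) ≫ (yon S).map cD ≫ p =
        (yon S).map (homO k (Pi.evalRingHom R i) (ρ.comp (Pi.evalRingHom R i)) ρ rfl) ≫ x i := by
    intro inc hinc w hw'
    let χ : D →+* C i := q.comp inc
    have hχ : χ.comp φD = ρ.comp (Pi.evalRingHom R i) := by rw [RingHom.comp_assoc, hinc, hq]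
    let χ' : AdjoinRoot (f i) →+* C i := AdjoinRoot.lift ρ (χ (AdjoinRoot.root _)) (by
      rw [← map_piPoly d f hf hd i, eval₂_map, ← hχ, ← hom_eval₂]
      rw [show φD = AdjoinRoot.of (piPoly d f) from rfl, AdjoinRoot.eval₂_root, map_zero])
    have hχ' : χ'.comp (ev i) = χ := by
      refine RingHom.ext fun z => ?_
      obtain ⟨q', rfl⟩ := AdjoinRoot.mk_surjective z
      show χ' (evRoot d f hf hd i _) = _
      rw [evRoot_mk, AdjoinRoot.lift_mk, eval₂_map, ← hχ, ← hom_eval₂, show φD = AdjoinRoot.of (piPoly d f) from rfl]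
      congr 1
      rw [← AdjoinRoot.algebraMap_eq, ← aeval_def, AdjoinRoot.aeval_eq]
    let u : ptO k (ρ.comp (Pi.evalRingHom R i)) ⟶ ptO k ((algebraMap (R i) (AdjoinRoot (f i))).comp (Pi.evalRingHom R i)) :=
      homO k _ _ χ' (RingHom.ext fun r =>
        show χ' (AdjoinRoot.of (f i) (r i)) = ρ (r i) from AdjoinRoot.lift_of _)
    have e1 : w ≫ homO k φD φE inc hinc ≫ cD = u ≫ c i := Over.OverMorphism.ext (by
      show w.left ≫ Spec.map (CommRingCat.ofHom inc) ≫ cd = Spec.map (CommRingCat.ofHom χ') ≫ (c i).left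
      rw [hw', ← hcd i, ← Category.assoc (Spec.map (CommRingCat.ofHom q)),
        ← Category.assoc (Spec.map (CommRingCat.ofHom χ')) (Spec.map (CommRingCat.ofHom (ev i))),
        specMap_comp, specMap_comp, hχ'])
    have e2 : u ≫ homO k (Pi.evalRingHom R i) ((algebraMap (R i) (AdjoinRoot (f i))).comp (Pi.evalRingHom R i))
        (algebraMap (R i) (AdjoinRoot (f i))) rfl = homO k (Pi.evalRingHom R i) (ρ.comp (Pi.evalRingHom R i)) ρ rfl :=
      Over.OverMorphism.ext (by
        show Spec.map (CommRingCat.ofHom χ') ≫ Spec.map _ = Spec.map _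
        rw [specMap_comp]
        rw [show χ'.comp (algebraMap (R i) (AdjoinRoot (f i))) = ρ from
          RingHom.ext fun r => show χ' (AdjoinRoot.of (f i) r) = ρ r from AdjoinRoot.lift_of _])
    rw [← Functor.map_comp_assoc, ← Functor.map_comp_assoc, Category.assoc, e1, Functor.map_comp, Category.assoc,
      hc i, ← Functor.map_comp_assoc, e2]
  have hpt : Spec.map (CommRingCat.ofHom q) ≫ (ptO k φE).hom = (ptO k (ρ.comp (Pi.evalRingHom R i))).hom := by
    show Spec.map _ ≫ Spec.map _ ≫ k = Spec.map _ ≫ k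
    rw [← Category.assoc, specMap_comp, hq]
  let w : ptO k (ρ.comp (Pi.evalRingHom R i)) ⟶ ptO k φE := Over.homMk (Spec.map (CommRingCat.ofHom q)) hpt
  have how : Spec.map (CommRingCat.ofHom (Pi.evalRingHom (fun j => (C j : Type u)) i)) ≫
      Spec.map (CommRingCat.ofHom Φ.toRingHom) = Spec.map (CommRingCat.ofHom q) := by
    rw [specMap_comp]
    rfl
  let v : Over.mk (Spec.map (CommRingCat.ofHom (Pi.evalRingHom (fun j => (C j : Type u)) i)) ≫ h') ⟶
      ptO k (ρ.comp (Pi.evalRingHom R i)) := Over.homMk (𝟙 _) (by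
    show 𝟙 _ ≫ _ = Spec.map _ ≫ h'
    rw [Category.id_comp, ← hpt, ← how, Category.assoc])
  have hov : o ≫ ε = v ≫ w := Over.OverMorphism.ext (how.trans (Category.id_comp _).symm)
  have hov' : ∀ z : (yon S).obj (ptO k φE) ⟶ X.obj, (yon S).map o ≫ (yon S).map ε ≫ z = (yon S).map v ≫ (yon S).map w ≫ z := fun z => by
    rw [← Functor.map_comp_assoc, hov, Functor.map_comp, Category.assoc]
  simp only [hov']
  exact congrArg (_ ≫ ·) ((fac inl hl w rfl).trans (fac inr hr w rfl).symm)

end Groth.Agent.PiHens4
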