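import Groth.Agent.Lib.PiHens4.Point
import Groth.Agent.Lib.PiHens4.Piece
import Groth.Agent.Lib.AlgSpDescent.FormallyLift

/-!
# Points over products of henselian local rings
-/

set_option autoImplicit false
set_option backward.isDefEq.respectTransparency.types false
set_option linter.style.haveILetI false
universe u

open CategoryTheory CategoryTheory.Limits AlgebraicGeometry Polynomial

namespace Groth.Agent.PiHens4

open AlgSp

variable {S : Scheme.{u}} [IsAffine S]

theorem injective_of_monic {B : Type u} [CommRing B] {f : B[X]} (hf : f.Monic) (hpos : 0 < f.natDegree) :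
    Function.Injective (algebraMap B (AdjoinRoot f)) := fun r s h => by
  rw [AdjoinRoot.algebraMap_eq, AdjoinRoot.of, RingHom.comp_apply, RingHom.comp_apply, AdjoinRoot.mk_eq_mk,
    ← C_sub] at h
  by_contra hne
  exact hf.not_dvd_of_natDegree_lt (fun h0 => hne (sub_eq_zero.1 (C_eq_zero.1 h0)))
    (by rw [natDegree_C]; exact hpos) h

/-- Objects over the base with equal structure maps. -/
noncomputable def castO {T : Scheme.{u}} {a b : T ⟶ S} (e : a = b) : Over.mk a ⟶ Over.mk b :=
  Over.homMk (𝟙 T) ((Category.id_comp b).trans e.symm)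

omit [IsAffine S] in
theorem castO_left {T : Scheme.{u}} {a b : T ⟶ S} (e : a = b) : (castO e).left = 𝟙 T := rfl

omit [IsAffine S] in
theorem comp_castO_left {T : Scheme.{u}} {W : Over S} {a b : T ⟶ S} (e : a = b) (v : W ⟶ Over.mk a) :
    (v ≫ castO e).left = v.left := by
  subst e; exact Category.comp_id _

omit [IsAffine S] in
theorem lift_eq (X : AlgSp.Space S) {W' W T' T U : Over S} (s : W' ⟶ W) (c : W ⟶ U) (a : W' ⟶ T') (t : T' ⟶ T)
    (b : W ⟶ T) (x : (yon S).obj T ⟶ X.obj) (p : (yon S).obj U ⟶ X.obj)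
    (hc : (yon S).map c ≫ p = (yon S).map b ≫ x) (e : a ≫ t = s ≫ b) :
    (yon S).map (s ≫ c) ≫ p = (yon S).map a ≫ (yon S).map t ≫ x := by
  rw [Functor.map_comp_assoc, hc, ← Functor.map_comp_assoc, ← Functor.map_comp_assoc, e]

omit [IsAffine S] in
theorem restr_eq (X : AlgSp.Space S) {W W' T' T Y : Over S} (a : W' ⟶ T') (t : T' ⟶ T) (o : T ⟶ Y) (v : W' ⟶ W)
    (g : W ⟶ Y) (m : (yon S).obj Y ⟶ X.obj) (l : (yon S).obj W ⟶ X.obj) (x : (yon S).obj T ⟶ X.obj)
    (hm : (yon S).map g ≫ m = l) (e : (a ≫ t) ≫ o = v ≫ g)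
    (hl : (yon S).map v ≫ l = (yon S).map a ≫ (yon S).map t ≫ x) :
    (yon S).map (a ≫ t) ≫ (yon S).map o ≫ m = (yon S).map (a ≫ t) ≫ x := by
  rw [← Functor.map_comp_assoc, e, Functor.map_comp_assoc, hm, hl, ← Functor.map_comp_assoc]

section Restr

variable {ι : Type u} (A : ι → Type u) [∀ i, CommRing (A i)] (P : ι → Prop)
  (h : Spec (CommRingCat.of (∀ i, A i)) ⟶ S)

/-- Restriction to the components with the property. -/
def restr : (∀ i, A i) →+* ∀ j : {i // P i}, A j.1 := RingHom.pi fun j => Pi.evalRingHom A j.1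

/-- The spectrum of the restricted product over the base. -/
noncomputable abbrev restrHom : Spec (CommRingCat.of (∀ j : {i // P i}, A j.1)) ⟶ S :=
  Spec.map (CommRingCat.ofHom (restr A P)) ≫ h

omit [IsAffine S] in
theorem restr_eval {B : Type u} [CommRing B] (j : {i // P i}) (φ : A j.1 →+* B) :
    (φ.comp (Pi.evalRingHom (fun j : {i // P i} => A j.1) j)).comp (restr A P) = φ.comp (Pi.evalRingHom A j.1) :=
  RingHom.ext fun _ => rfl

omit [IsAffine S] in
theorem pt_eq (j : {i // P i}) :
    Spec.map (CommRingCat.ofHom (Pi.evalRingHom (fun j : {i // P i} => A j.1) j)) ≫ restrHom A P h =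
      Spec.map (CommRingCat.ofHom (Pi.evalRingHom A j.1)) ≫ h := by
  rw [restrHom, ← Category.assoc (Spec.map (CommRingCat.ofHom (Pi.evalRingHom (fun j : {i // P i} => A j.1) j))),
    specMap_comp]
  rw [show (Pi.evalRingHom (fun j : {i // P i} => A j.1) j).comp (restr A P) = Pi.evalRingHom A j.1 from
    RingHom.ext fun _ => rfl]

omit [IsAffine S] in
theorem pt_eq' {B : Type u} [CommRing B] (j : {i // P i}) (φ : A j.1 →+* B) :
    Spec.map (CommRingCat.ofHom (φ.comp (Pi.evalRingHom (fun j : {i // P i} => A j.1) j))) ≫ restrHom A P h =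
      Spec.map (CommRingCat.ofHom φ) ≫ Spec.map (CommRingCat.ofHom (Pi.evalRingHom A j.1)) ≫ h := by
  rw [← pt_eq, ← Category.assoc (Spec.map (CommRingCat.ofHom φ)), specMap_comp]

omit [IsAffine S] in
theorem re_sq {B : Type u} [CommRing B] (j : {i // P i}) (φ : A j.1 →+* B) :
    homO (restrHom A P h) (Pi.evalRingHom (fun j : {i // P i} => A j.1) j)
        (φ.comp (Pi.evalRingHom (fun j : {i // P i} => A j.1) j)) φ rfl ≫ castO (pt_eq A P h j) =
      castO (pt_eq' A P h j φ) ≫ strO (Spec.map (CommRingCat.ofHom (Pi.evalRingHom A j.1)) ≫ h) φ :=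
  Over.OverMorphism.ext (by
    rw [Over.comp_left, Over.comp_left]
    have e1 : (castO (pt_eq A P h j)).left = 𝟙 (Spec (CommRingCat.of (A j.1))) := castO_left _
    have e2 : (castO (pt_eq' A P h j φ)).left = 𝟙 (Spec (CommRingCat.of B)) := castO_left _
    refine (congrArg (_ ≫ ·) e1).trans ?_
    refine Eq.trans ?_ (congrArg (· ≫ _) e2).symm
    exact (Category.comp_id (Spec.map (CommRingCat.ofHom φ))).trans (Category.id_comp (Spec.map (CommRingCat.ofHom φ))).symm)

omit [IsAffine S] in
theorem re_left {B : Type u} [CommRing B] (j : {i // P i}) (φ : A j.1 →+* B) :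
    (homO (restrHom A P h) (Pi.evalRingHom (fun j : {i // P i} => A j.1) j)
        (φ.comp (Pi.evalRingHom (fun j : {i // P i} => A j.1) j)) φ rfl ≫ castO (pt_eq A P h j)).left =
      Spec.map (CommRingCat.ofHom φ) := by
  rw [Over.comp_left]
  have e1 : (castO (pt_eq A P h j)).left = 𝟙 (Spec (CommRingCat.of (A j.1))) := castO_left _
  refine (congrArg (_ ≫ ·) e1).trans ?_
  exact Category.comp_id (Spec.map (CommRingCat.ofHom φ))

open Classical in
/-- The idempotent of the components with the property. -/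
noncomputable def idem : ∀ i, A i := fun i => if P i then (1 : A i) else 0

variable (X : AlgSp.Space S) (hqc : IsQuasiCompactSp X.obj) (hqs : IsQuasiSeparatedSp X.obj)
  {U : Over S} [IsAffine U.left] (p : (yon S).obj U ⟶ X.obj)

include hqc hqs in
theorem exists_deg_piece (x : ∀ i, (yon S).obj (ptO h (Pi.evalRingHom A i)) ⟶ X.obj) (d : ℕ) (hd0 : 0 < d)
    (f : ∀ i, (A i)[X]) (hf : ∀ i, (f i).Monic) (hsep : ∀ i, (f i).Separable) (hd : ∀ i, P i → (f i).natDegree = d)
    (c : ∀ i, ptO (Spec.map (CommRingCat.ofHom (Pi.evalRingHom A i)) ≫ h) (algebraMap (A i) (AdjoinRoot (f i))) ⟶ U)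
    (hc : ∀ i, (yon S).map (c i) ≫ p = (yon S).map (strO (Spec.map (CommRingCat.ofHom (Pi.evalRingHom A i)) ≫ h)
      (algebraMap (A i) (AdjoinRoot (f i)))) ≫ x i) :
    ∃ (W : Over S) (g : W ⟶ Over.mk h) (l : (yon S).obj W ⟶ X.obj), Etale g.left ∧
      (∀ q, q ∈ Set.range g.left ↔ idem A P ∉ q.asIdeal) ∧
      (∀ (V : Over S) (a b : V ⟶ W), a ≫ g = b ≫ g → (yon S).map a ≫ l = (yon S).map b ≫ l) ∧
      (∀ m : (yon S).obj (Over.mk h) ⟶ X.obj, (yon S).map g ≫ m = l →
        ∀ i, P i → (yon S).map (strO h (Pi.evalRingHom A i)) ≫ m = x i) := by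
  classical
  obtain ⟨xs, hxs⟩ : ∃ xs : ∀ j : {i // P i},
      (yon S).obj (ptO (restrHom A P h) (Pi.evalRingHom (fun j : {i // P i} => A j.1) j)) ⟶ X.obj,
      ∀ j, xs j = (yon S).map (castO (pt_eq A P h j)) ≫ x j.1 := ⟨_, fun _ => rfl⟩
  obtain ⟨cs, hcs⟩ : ∃ cs : ∀ j : {i // P i}, ptO (restrHom A P h) ((algebraMap (A j.1) (AdjoinRoot (f j.1))).comp
      (Pi.evalRingHom (fun j : {i // P i} => A j.1) j)) ⟶ U,
      ∀ j, cs j = castO (pt_eq' A P h j (algebraMap (A j.1) (AdjoinRoot (f j.1)))) ≫ c j.1 := ⟨_, fun _ => rfl⟩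
  have hce : ∀ j : {i // P i}, (yon S).map (cs j) ≫ p = (yon S).map (homO (restrHom A P h)
      (Pi.evalRingHom (fun j : {i // P i} => A j.1) j) ((algebraMap (A j.1) (AdjoinRoot (f j.1))).comp
      (Pi.evalRingHom (fun j : {i // P i} => A j.1) j)) (algebraMap (A j.1) (AdjoinRoot (f j.1))) rfl) ≫ xs j :=
    fun j => by
      rw [hcs, hxs]
      exact lift_eq X _ _ _ _ _ (x j.1) p (hc j.1) (re_sq A P h j (algebraMap (A j.1) (AdjoinRoot (f j.1))))
  obtain ⟨l, hl₁, hl₂⟩ := exists_piece X hqc hqs p (fun j : {i // P i} => A j.1) (restrHom A P h)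
    xs d (fun j => f j.1) (fun j => hf j.1) (fun j => hd j.1 j.2) cs hce
  let D := AdjoinRoot (piPoly d fun j : {i // P i} => f j.1)
  let φD : (∀ j : {i // P i}, A j.1) →+* D := algebraMap _ D
  let r : Over.mk (restrHom A P h) ⟶ Over.mk h := Over.homMk (Spec.map (CommRingCat.ofHom (restr A P))) rfl
  letI := (restr A P).toAlgebra
  haveI : IsLocalization.Away (idem A P) (∀ j : {i // P i}, A j.1) := away_restrict A P
  haveI hopen : IsOpenImmersion r.left := IsOpenImmersion.of_isLocalization (idem A P)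
  haveI := (monic_piPoly d fun j : {i // P i} => f j.1).finite_adjoinRoot
  haveI : Algebra.Etale (∀ j : {i // P i}, A j.1) D := etale_adjoinRoot (monic_piPoly _ _)
    (separable_piPoly _ _ (fun j => hf j.1) (fun j => hd j.1 j.2) fun j => hsep j.1)
  haveI het : Etale (strO (restrHom A P h) φD).left :=
    (HasRingHomProperty.Spec_iff (P := @Etale)).2 (RingHom.etale_algebraMap.2 inferInstance)
  refine ⟨_, strO (restrHom A P h) φD ≫ r, l, ?_, fun q => ?_, fun V a b hab => ?_, fun m hm i hi => ?_⟩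
  · rw [Over.comp_left]; infer_instance
  · constructor
    · rintro ⟨y, rfl⟩ hy
      let z : Spec (CommRingCat.of (∀ j : {i // P i}, A j.1)) := Spec.map (CommRingCat.ofHom φD) y
      have hy' : restr A P (idem A P) ∈ z.asIdeal := hy
      rw [show restr A P (idem A P) = 1 from funext fun j => if_pos j.2] at hy'
      exact z.isPrime.ne_top ((Ideal.eq_top_iff_one _).2 hy')
    · intro hq
      obtain ⟨z, hz⟩ : q ∈ Set.range (PrimeSpectrum.comap (algebraMap (∀ i, A i) (∀ j : {i // P i}, A j.1))) := by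
        rw [PrimeSpectrum.localization_away_comap_range _ (idem A P)]
        exact hq
      haveI : FaithfulSMul (∀ j : {i // P i}, A j.1) D := (faithfulSMul_iff_algebraMap_injective _ _).2
        (injective_algebraMap d (fun j : {i // P i} => f j.1) (fun j => hf j.1) (fun j => hd j.1 j.2)
          fun j => by rw [hd j.1 j.2]; exact hd0)
      obtain ⟨y, hy⟩ := Algebra.IsIntegral.comap_surjective (∀ j : {i // P i}, A j.1) D z
      refine ⟨y, ?_⟩
      show Spec.map (CommRingCat.ofHom (restr A P)) (Spec.map (CommRingCat.ofHom φD) y) = q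
      rw [show Spec.map (CommRingCat.ofHom φD) y = z from hy]
      exact hz
  · refine hl₂ V a b (Over.OverMorphism.ext ((cancel_mono r.left).1 ?_))
    simpa only [Over.comp_left, Category.assoc] using congrArg CommaMorphism.left hab
  · let j : {i // P i} := ⟨i, hi⟩
    haveI : Algebra.Etale (A i) (AdjoinRoot (f i)) := etale_adjoinRoot (hf i) (hsep i)
    haveI := (hf i).finite_adjoinRoot
    let π := homO (restrHom A P h) (Pi.evalRingHom (fun j : {i // P i} => A j.1) j)
      ((algebraMap (A i) (AdjoinRoot (f i))).comp (Pi.evalRingHom (fun j : {i // P i} => A j.1) j))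
      (algebraMap (A i) (AdjoinRoot (f i))) rfl ≫ castO (pt_eq A P h j)
    have hπ : π.left = Spec.map (CommRingCat.ofHom (algebraMap (A i) (AdjoinRoot (f i)))) :=
      re_left A P h j _
    refine AlgSpDescent.eq_of_etale_nbhds fun q => ⟨_, π, ?_, ?_, ?_⟩
    · rw [hπ]
      exact (HasRingHomProperty.Spec_iff (P := @Etale)).2 (RingHom.etale_algebraMap.2 inferInstance)
    · rw [hπ]
      haveI : FaithfulSMul (A i) (AdjoinRoot (f i)) := (faithfulSMul_iff_algebraMap_injective _ _).2
        (injective_of_monic (hf i) (by rw [hd i hi]; exact hd0))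
      obtain ⟨y, hy⟩ := Algebra.IsIntegral.comap_surjective (A i) (AdjoinRoot (f i)) q
      exact ⟨y, hy⟩
    · refine restr_eq X _ _ _ _ _ m l (x i) hm ?_ ((hl₁ j).trans (congrArg (_ ≫ ·) (hxs j)))
      refine Over.OverMorphism.ext ?_
      rw [Over.comp_left, Over.comp_left, Over.comp_left]
      refine (congrArg (· ≫ _) hπ).trans ?_
      show Spec.map (CommRingCat.ofHom (algebraMap (A i) (AdjoinRoot (f i)))) ≫
          Spec.map (CommRingCat.ofHom (Pi.evalRingHom A i)) =
        Spec.map (CommRingCat.ofHom (evRoot d (fun j : {i // P i} => f j.1) (fun j => hf j.1) (fun j => hd j.1 j.2) j)) ≫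
          Spec.map (CommRingCat.ofHom φD) ≫ Spec.map (CommRingCat.ofHom (restr A P))
      rw [specMap_comp, specMap_comp, specMap_comp]
      exact congrArg (fun z => Spec.map (CommRingCat.ofHom z)) (RingHom.ext fun a =>
        (evRoot_algebraMap d (fun j : {i // P i} => f j.1) (fun j => hf j.1) (fun j => hd j.1 j.2) j
          (restr A P a)).symm)

end Restr

theorem exists_point_pi (X : AlgSp.Space S) (hqc : IsQuasiCompactSp X.obj) (hqs : IsQuasiSeparatedSp X.obj)
    {ι : Type u} (A : ι → Type u) [∀ i, CommRing (A i)] [∀ i, HenselianLocalRing (A i)]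
    (h : Spec (CommRingCat.of (∀ i, A i)) ⟶ S)
    (x : ∀ i, (yon S).obj (ptO h (Pi.evalRingHom A i)) ⟶ X.obj) :
    ∃ m : (yon S).obj (Over.mk h) ⟶ X.obj, ∀ i, (yon S).map (strO h (Pi.evalRingHom A i)) ≫ m = x i := by
  classical
  obtain ⟨U, p, hU, he, hs⟩ := AlgSpace.exists_affine_chart hqc
  haveI := hU
  haveI hT : ∀ i, IsAffine (ptO h (Pi.evalRingHom A i)).left := fun i =>
    inferInstanceAs (IsAffine (Spec (CommRingCat.of (A i))))
  obtain ⟨N, hN⟩ := exists_bound hqs he hs
  choose f hf hsep c hc hpos hdeg heq using fun i =>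
    exists_point hqs he hs N (A i) (Spec.map (CommRingCat.ofHom (Pi.evalRingHom A i)) ≫ h) (x i) (hN _ (x i))
  have key := fun d : Fin N => exists_deg_piece A (fun i => (f i).natDegree = (d : ℕ) + 1) h X hqc hqs p x
    ((d : ℕ) + 1) (Nat.succ_pos _) f hf hsep (fun i hi => hi) (fun i => Over.homMk (c i) (hc i)) heq
  choose W g l het hrange hself hrestr using key
  obtain ⟨m, hm⟩ := AlgSpDescent.exists_glue_etale (F := X.obj) (fun d : ULift.{u} (Fin N) => W d.down)
    (fun d => g d.down) (fun d => het d.down) (fun q => by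
      obtain ⟨d, hd⟩ : ∃ d : Fin N, idem A (fun i => (f i).natDegree = (d : ℕ) + 1) ∉ q.asIdeal := by
        by_contra! hall
        refine q.isPrime.ne_top ((Ideal.eq_top_iff_one _).2 ?_)
        have h1 : (1 : ∀ i, A i) = ∑ d : Fin N, idem A (fun i => (f i).natDegree = (d : ℕ) + 1) := funext fun i => by
          rw [Finset.sum_apply, Finset.sum_eq_single (⟨(f i).natDegree - 1, by
            have := hdeg i; have := hpos i; omega⟩ : Fin N)]
          · exact (if_pos (Nat.sub_add_cancel (hpos i)).symm).symm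
          · exact fun b _ hb => if_neg fun hP => hb (Fin.ext (by simp [hP]))
          · simp
        rw [h1]
        exact Ideal.sum_mem _ fun d _ => hall d
      exact ⟨⟨d⟩, (hrange d q).2 hd⟩) (fun d => l d.down)
    (by
      rintro ⟨d⟩ ⟨d'⟩ V a b hab
      by_cases hdd : d = d'
      · subst hdd
        exact hself d V a b hab
      · refine AlgSpDescent.eq_of_etale_nbhds fun v => ?_
        exfalso
        have h1 := (hrange d ((g d).left (a.left v))).1 ⟨_, rfl⟩
        have h2 := (hrange d' ((g d').left (b.left v))).1 ⟨_, rfl⟩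
        rw [show (g d').left (b.left v) = (g d).left (a.left v) from
          (congr($(congrArg CommaMorphism.left hab) v)).symm] at h2
        have h0 : idem A (fun i => (f i).natDegree = (d : ℕ) + 1) * idem A (fun i => (f i).natDegree = (d' : ℕ) + 1) = 0 :=
          funext fun i => by
          by_cases hi : (f i).natDegree = (d : ℕ) + 1
          · simp [idem, hi, Fin.val_eq_val, hdd]
          · simp [idem, hi]
        exact (((g d).left (a.left v)).isPrime.mem_or_mem (h0 ▸ Submodule.zero_mem _)).elim h1 h2)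
  refine ⟨m, fun i => hrestr ⟨(f i).natDegree - 1, ?_⟩ m (hm ⟨_⟩) i (Nat.sub_add_cancel (hpos i)).symm⟩
  have := hdeg i; have := hpos i; omega

end Groth.Agent.PiHens4
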