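import Groth.Agent.Lib.PiHens4.Alg
import Groth.Agent.Lib.AlgSpace.Diag
import Groth.Agent.Lib.AlgSpace.Points
import Groth.Agent.Lib.BddFib19.QuasiFinite
import Groth.Agent.S5038
import Groth.Agent.Lib.AlgSpDecent.MonoPoint

/-!
# Lifting henselian points through an affine chart
-/

set_option autoImplicit false
set_option backward.isDefEq.respectTransparency.types false
set_option linter.style.haveILetI false
universe u

open CategoryTheory CategoryTheory.Limits AlgebraicGeometry IsLocalRing TensorProduct Polynomial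

namespace Groth.Agent.PiHens4

open AlgSp Groth.Agent.AlgSpace Groth.Agent.BddFib19 Groth.Agent.AlgSpDecent

variable {S : Scheme.{u}} [IsAffine S] {F : Sp S} (hq : IsQuasiSeparatedSp F)
  {U : Over S} [IsAffine U.left] {p : (yon S).obj U ⟶ F} (he : RepWith @Etale p)

include hq in
theorem qc_separated_snd {P T : Over S} [IsAffine T.left] {a : P ⟶ U} {b : P ⟶ T} {x : (yon S).obj T ⟶ F}
    (sq : IsPullback ((yon S).map a) ((yon S).map b) p x) :
    QuasiCompact b.left ∧ IsSeparated b.left ∧ CompactSpace ↥P.left := by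
  haveI : QuasiCompact (prod.lift a b).left := prop_lift_of_repWith_diag hq sq
  haveI : IsSeparated (prod.lift a b).left := prop_lift_of_repWith_diag (repWith_diag_isSeparated hq.1) sq
  haveI : IsAffineHom U.hom := inferInstance
  haveI : IsAffineHom (prod.snd : U ⨯ T ⟶ T).left :=
    MorphismProperty.of_isPullback (P := @IsAffineHom) (isPullback_fst_left U T) inferInstance
  have e : b.left = (prod.lift a b).left ≫ (prod.snd : U ⨯ T ⟶ T).left := by
    rw [← Over.comp_left, prod.lift_snd]
  haveI : QuasiCompact b.left := by rw [e]; infer_instance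
  refine ⟨inferInstance, by rw [e]; infer_instance, QuasiCompact.compactSpace_of_compactSpace b.left⟩

include hq he in
theorem exists_bound (hs : RepWith @Surjective p) :
    ∃ N, ∀ (T : Over S) [IsAffine T.left] (x : (yon S).obj T ⟶ F),
      AllLE (he.1.snd x).left N := by
  have sR := he.1.isPullback' p
  haveI : Etale (he.1.snd p).left := he.2 p _ _ sR
  obtain ⟨-, -, hc⟩ := qc_separated_snd hq sR
  haveI := hc
  haveI := AlgSpDecent.locallyQuasiFinite_of_etale (he.1.snd p).left
  obtain ⟨N, hN⟩ := exists_allLE (he.1.snd p).left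
  refine ⟨N, fun T _ x => ?_⟩
  have sP := he.1.isPullback' x
  haveI : Surjective (he.1.snd x).left := hs.2 x _ _ sP
  have sQ := IsPullback.of_hasPullback (he.1.snd x) (he.1.snd x)
  have s2 := (sQ.map (yon S)).paste_horiz sP
  rw [← sP.w] at s2
  let l := sR.lift ((yon S).map (pullback.fst (he.1.snd x) (he.1.snd x)) ≫ (yon S).map (he.1.fst' x))
    ((yon S).map (pullback.snd (he.1.snd x) (he.1.snd x)) ≫ (yon S).map (he.1.fst' x))
    (by rw [Category.assoc, Category.assoc]; exact (Category.assoc _ _ _).symm.trans s2.w)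
  have s3 : IsPullback l ((yon S).map (pullback.snd (he.1.snd x) (he.1.snd x))) ((yon S).map (he.1.snd p))
      ((yon S).map (he.1.fst' x)) := IsPullback.of_right (by rw [sR.lift_fst]; exact s2) (sR.lift_snd _ _ _) sR
  rw [← (yon S).map_preimage l] at s3
  have s4 := (IsPullback.of_map (yon S) ((yon S).map_injective (by simpa using s3.w)) s3).map (Over.forget S)
  haveI : Surjective ((Over.forget S).map (he.1.snd x)) := ‹Surjective (he.1.snd x).left›
  exact AllLE.of_surjective (sQ.map (Over.forget S)) (hN.baseChange s4)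

include hq he in
theorem exists_point (hs : RepWith @Surjective p) (N : ℕ) (A : Type u) [CommRing A] [HenselianLocalRing A]
    (k : Spec (CommRingCat.of A) ⟶ S) (x : (yon S).obj (Over.mk k) ⟶ F)
    (hN : AllLE (he.1.snd x).left N) :
    ∃ (f : A[X]) (_ : f.Monic) (_ : f.Separable) (c : Spec (CommRingCat.of (AdjoinRoot f)) ⟶ U.left)
      (hc : c ≫ U.hom = Spec.map (CommRingCat.ofHom (algebraMap A (AdjoinRoot f))) ≫ k),
      0 < f.natDegree ∧ f.natDegree ≤ N ∧
      (yon S).map (Over.homMk c hc : Over.mk (Spec.map (CommRingCat.ofHom (algebraMap A (AdjoinRoot f))) ≫ k) ⟶ U) ≫ p =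
        (yon S).map (Over.homMk (Spec.map (CommRingCat.ofHom (algebraMap A (AdjoinRoot f)))) rfl :
          Over.mk (Spec.map (CommRingCat.ofHom (algebraMap A (AdjoinRoot f))) ≫ k) ⟶ Over.mk k) ≫ x := by
  haveI : IsAffine (Over.mk k).left := inferInstanceAs (IsAffine (Spec (CommRingCat.of A)))
  have sP := he.1.isPullback' x
  let P : Over S := he.1.pullback x
  let b : P.left ⟶ Spec (CommRingCat.of A) := (he.1.snd x).left
  haveI : Etale b := he.2 x _ _ sP
  haveI : Surjective b := hs.2 x _ _ sP
  -- the closed fibre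
  let κ := ResidueField A
  let i : Spec (CommRingCat.of κ) ⟶ Spec (CommRingCat.of A) := Spec.map (CommRingCat.ofHom (residue A))
  let b₀ := pullback.snd b i
  haveI : Surjective b₀ := inferInstance
  haveI : Etale b₀ := MorphismProperty.pullback_snd (P := @Etale) _ _ inferInstance
  have hfin : FinLE N b₀ := hN κ i
  haveI := hfin.isAffine
  obtain ⟨B, _, _, e, heq, hB, hle⟩ := exists_spec_form' hfin
  haveI := hB
  haveI : Etale (Spec.map (CommRingCat.ofHom (algebraMap κ B))) := by
    rw [(Iso.eq_inv_comp e).2 heq]; infer_instance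
  haveI : Algebra.Etale κ B := RingHom.etale_algebraMap.1 ((HasRingHomProperty.Spec_iff (P := @Etale)).1 ‹_›)
  haveI : Nontrivial B := by
    obtain ⟨z, -⟩ := b₀.surjective (IsLocalRing.closedPoint κ)
    by_contra hn
    rw [not_nontrivial_iff_subsingleton] at hn
    exact (e.hom z).isPrime.ne_top (Subsingleton.elim _ _)
  obtain ⟨f, hf, hsep, hD, ψ, hpos, hdeg, hψ⟩ := exists_monogenic A B
  haveI := hD
  let D := AdjoinRoot f
  let σ : Spec (CommRingCat.of D) ⟶ Spec (CommRingCat.of A) := Spec.map (CommRingCat.ofHom (algebraMap A D))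
  let z : Spec (CommRingCat.of (ResidueField D)) ⟶ P.left :=
    Spec.map (CommRingCat.ofHom ψ) ≫ e.inv ≫ pullback.fst b i
  have hz : z ≫ b = Spec.map (CommRingCat.ofHom (residue D)) ≫ σ := by
    simp only [z, σ, i, Category.assoc]
    rw [pullback.condition, ← Category.assoc e.inv, ← (Iso.eq_inv_comp e).2 heq, ← Spec.map_comp, ← Spec.map_comp,
      ← Spec.map_comp, ← CommRingCat.ofHom_comp, ← CommRingCat.ofHom_comp, ← CommRingCat.ofHom_comp]
    exact congrArg (fun g => Spec.map (CommRingCat.ofHom g)) hψ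
  haveI : Etale (pullback.snd b σ) := MorphismProperty.pullback_snd (P := @Etale) _ _ inferInstance
  obtain ⟨v, hv, -⟩ := S5038.result D (pullback.snd b σ) (pullback.lift z _ hz) (pullback.lift_snd _ _ _)
  let w : Over.mk (σ ≫ k) ⟶ P := Over.homMk (v ≫ pullback.fst b σ) (by
    rw [show P.hom = b ≫ k from (Over.w (he.1.snd x)).symm, Category.assoc, pullback.condition_assoc,
      ← Category.assoc, hv]
    exact Category.id_comp _)
  refine ⟨f, hf, hsep, (w ≫ he.1.fst' x).left, Over.w _, hpos, hdeg.trans hle, ?_⟩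
  have e1 : w ≫ he.1.snd x = Over.homMk σ rfl := by
    refine Over.OverMorphism.ext ?_
    show (v ≫ pullback.fst b σ) ≫ b = σ
    rw [Category.assoc, pullback.condition, ← Category.assoc, hv, Category.id_comp]
  show (yon S).map (w ≫ he.1.fst' x) ≫ p = (yon S).map (Over.homMk σ rfl : Over.mk (σ ≫ k) ⟶ Over.mk k) ≫ x
  rw [Functor.map_comp, Category.assoc, sP.w, ← Functor.map_comp_assoc, e1]

end Groth.Agent.PiHens4
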